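import Mathlib

/-!
Certificates for finite Coxeter groups along the chain of parabolic subgroups generated by initial
segments of the generators: an exact coset table, replayed deductions from the Coxeter relations,
and an orbit of integer vectors separating the cosets in the reflection representation.
-/

set_option autoImplicit false

namespace Cfsg.Agent.WeylFin

/-- One entry of a coset table packed in a natural number (8 bits per entry). -/
def entry (tab K x g : ℕ) : ℕ := (tab >>> (8 * (x * K + g))) &&& 255

/-- Alternating product `a b a …` with `l` letters. -/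
def alt {W : Type*} [Monoid W] : W → W → ℕ → W
  | _, _, 0 => 1
  | a, b, l + 1 => a * alt b a l

theorem alt_two {W : Type*} [Monoid W] (a b : W) (j : ℕ) :
    alt a b (2 * j + 1) = (a * b) ^ j * a := by
  induction j with
  | zero => simp [alt]
  | succ j ih =>
    rw [show 2 * (j + 1) + 1 = (2 * j + 1) + 1 + 1 by omega]
    show a * (b * alt a b (2 * j + 1)) = _
    rw [ih, pow_succ', ← mul_assoc, mul_assoc (a * b)]

/-- Follow known edges along `a b a …`. -/
def walk (tab K known : ℕ) : ℕ → ℕ → ℕ → ℕ → Option ℕ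
  | x, _, _, 0 => some x
  | x, a, b, l + 1 =>
    if known.testBit (x * K + a) then walk tab K known (entry tab K x a) b a l else none

/-- Is the edge numbered `p.1` justified, by definition or by the relation with generator `p.2`? -/
def stepOK (m : ℕ → ℕ → ℕ) (k N tab : ℕ) (ws : List (List ℕ)) (known : ℕ) (p : ℕ × ℕ) : Bool :=
  let x := p.1 / (k + 1)
  let g := p.1 % (k + 1)
  let y := entry tab (k + 1) x g
  decide (x < N) && decide (y < N) && decide (entry tab (k + 1) y g = x) &&
    decide (p.2 < k + 1) &&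
    (if p.2 = g then
      (decide (x = 0) && decide (g < k) && decide (y = 0) && decide (ws.getD 0 [] = [])) ||
        decide (ws.getD y [] = ws.getD x [] ++ [g])
     else
      decide (0 < m p.2 g) &&
        decide (walk tab (k + 1) known x p.2 g (2 * (m p.2 g - 1) + 1) = some y))

/-- The edges known after one more step. -/
def stepNew (k tab known e : ℕ) : ℕ :=
  known ||| 2 ^ e ||| 2 ^ (entry tab (k + 1) (e / (k + 1)) (e % (k + 1)) * (k + 1) + e % (k + 1))

/-- Replay of all deductions. -/
def replay (m : ℕ → ℕ → ℕ) (k N tab : ℕ) (ws : List (List ℕ)) : List (ℕ × ℕ) → ℕ → Option ℕ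
  | [], known => some known
  | p :: r, known =>
    if stepOK m k N tab ws known p then replay m k N tab ws r (stepNew k tab known p.1) else none

/-- A vector under the `g`-th reflection. -/
def stp (n : ℕ) (A : List (List ℤ)) (g : ℕ) (v : List ℤ) : List ℤ :=
  (List.range n).map fun j => v.getD j 0 - v.getD g 0 * (A.getD g []).getD j 0

/-- The `k`-th unit vector. -/
def unitVec (n k : ℕ) : List ℤ := (List.range n).map fun j => if j = k then 1 else 0

/-- The whole certificate of one level. -/
structure Level where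
  N : ℕ
  tab : ℕ
  ws : List (List ℕ)
  steps : List (ℕ × ℕ)
  vs : List (List ℤ)

/-- Validity of a level, decidable by computation. -/
def Level.check (L : Level) (n : ℕ) (m : ℕ → ℕ → ℕ) (A : List (List ℤ)) (k : ℕ) : Bool :=
  decide (k < n) && decide (0 < L.N) &&
  decide (replay m k L.N L.tab L.ws L.steps 0 = some (2 ^ (L.N * (k + 1)) - 1)) &&
  decide (L.ws.getD 0 [] = []) &&
  (List.range L.N).all (fun x =>
    (L.ws.getD x []).all (fun g => decide (g < k + 1)) &&
    decide ((L.ws.getD x []).foldl (fun y g => entry L.tab (k + 1) y g) 0 = x)) &&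
  decide (L.vs.getD 0 [] = unitVec n k) &&
  decide (L.vs.length = L.N) && decide L.vs.Nodup &&
  (List.range L.N).all (fun x => (List.range (k + 1)).all fun g =>
    decide (stp n A g (L.vs.getD x []) = L.vs.getD (entry L.tab (k + 1) x g) []))

variable {n : ℕ} (M : CoxeterMatrix (Fin n))

/-- The Coxeter matrix on natural numbers. -/
def mNat (i j : ℕ) : ℕ := if h : i < n ∧ j < n then M ⟨i, h.1⟩ ⟨j, h.2⟩ else 0

/-- The generators on natural numbers. -/
def gen (i : ℕ) : M.Group := if h : i < n then M.simple ⟨i, h⟩ else 1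

theorem gen_mul_self (i : ℕ) : gen M i * gen M i = 1 := by
  unfold gen
  split_ifs
  · exact M.toCoxeterSystem.simple_mul_simple_self _
  · exact one_mul _

theorem gen_inv (i : ℕ) : (gen M i)⁻¹ = gen M i := inv_eq_of_mul_eq_one_right (gen_mul_self M i)

theorem gen_pow (i j : ℕ) : (gen M i * gen M j) ^ mNat M i j = 1 := by
  unfold mNat
  split_ifs with h
  · rw [gen, gen, dif_pos h.1, dif_pos h.2]
    exact M.toCoxeterSystem.simple_mul_simple_pow _ _
  · exact pow_zero _

/-- The parabolic subgroup of the first `k` generators. -/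
def para (k : ℕ) : Subgroup M.Group := Subgroup.closure (gen M '' {i | i < k})

theorem gen_mem_para {i k : ℕ} (h : i < k) : gen M i ∈ para M k :=
  Subgroup.subset_closure ⟨i, h, rfl⟩

theorem para_le_succ (k : ℕ) : para M k ≤ para M (k + 1) :=
  Subgroup.closure_mono (Set.image_mono fun i hi => Nat.lt_succ_of_lt hi)

theorem para_zero : para M 0 = ⊥ := by simp [para]

theorem para_top : para M n = ⊤ := by
  rw [eq_top_iff, ← M.toCoxeterSystem.subgroup_closure_range_simple, Subgroup.closure_le]
  rintro _ ⟨i, rfl⟩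
  have h : gen M i.1 = M.toCoxeterSystem.simple i := by
    rw [gen, dif_pos i.2, CoxeterMatrix.toCoxeterSystem_simple]
  exact h ▸ gen_mem_para M i.2

/-- The representative word of a coset. -/
def rep (ws : List (List ℕ)) (x : ℕ) : M.Group := ((ws.getD x []).map (gen M)).prod

/-- The two elements lie in one right coset of the parabolic. -/
def Rel (k : ℕ) (u v : M.Group) : Prop := u * v⁻¹ ∈ para M k

theorem Rel.refl (k : ℕ) (u : M.Group) : Rel M k u u := by
  show u * u⁻¹ ∈ _
  rw [mul_inv_cancel]; exact one_mem _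

variable {M}

theorem Rel.trans {k : ℕ} {u v w : M.Group} (h : Rel M k u v) (h' : Rel M k v w) :
    Rel M k u w := by
  have := mul_mem h h'
  rwa [show u * v⁻¹ * (v * w⁻¹) = u * w⁻¹ by group] at this

theorem Rel.symm {k : ℕ} {u v : M.Group} (h : Rel M k u v) : Rel M k v u := by
  have := inv_mem h
  rwa [mul_inv_rev, inv_inv] at this

theorem Rel.mul_right {k : ℕ} {u v : M.Group} (h : Rel M k u v) (w : M.Group) :
    Rel M k (u * w) (v * w) := by
  show u * w * (v * w)⁻¹ ∈ para M k
  rwa [show u * w * (v * w)⁻¹ = u * v⁻¹ by group]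

/-- The meaning of a set of known edges. -/
def Sound (M : CoxeterMatrix (Fin n)) (k N tab : ℕ) (ws : List (List ℕ)) (known : ℕ) : Prop :=
  ∀ x g, g < k + 1 → known.testBit (x * (k + 1) + g) = true →
    x < N ∧ entry tab (k + 1) x g < N ∧
      Rel M k (rep M ws x * gen M g) (rep M ws (entry tab (k + 1) x g))

theorem walk_sound {k N tab known : ℕ} {ws : List (List ℕ)} (hS : Sound M k N tab ws known) :
    ∀ (l x a b y : ℕ), a < k + 1 → b < k + 1 → walk tab (k + 1) known x a b l = some y →
      Rel M k (rep M ws x * alt (gen M a) (gen M b) l) (rep M ws y) := by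
  intro l
  induction l with
  | zero =>
    intro x a b y _ _ h
    simp only [walk, Option.some.injEq] at h
    subst h
    rw [alt, mul_one]
    exact Rel.refl M k _
  | succ l ih =>
    intro x a b y ha hb h
    simp only [walk] at h
    split_ifs at h with hbit
    obtain ⟨-, -, hr⟩ := hS x a ha hbit
    rw [alt, ← mul_assoc]
    exact (hr.mul_right _).trans (ih _ b a y hb ha h)

theorem alt_eq_gen {a b : ℕ} (h : 0 < mNat M a b) :
    alt (gen M a) (gen M b) (2 * (mNat M a b - 1) + 1) = gen M b := by
  rw [alt_two]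
  have h1 := gen_pow M a b
  rw [← Nat.sub_add_cancel h, pow_succ, ← mul_assoc] at h1
  rw [eq_inv_of_mul_eq_one_left h1, gen_inv]

theorem stepOK_sound {k N tab known : ℕ} {ws : List (List ℕ)} (hS : Sound M k N tab ws known)
    {p : ℕ × ℕ} (h : stepOK (mNat M) k N tab ws known p = true) :
    Sound M k N tab ws (stepNew k tab known p.1) := by
  simp only [stepOK, Bool.and_eq_true, decide_eq_true_eq] at h
  obtain ⟨⟨⟨⟨hx, hy⟩, hback⟩, hp2⟩, hcase⟩ := h
  have hrel : Rel M k (rep M ws (p.1 / (k + 1)) * gen M (p.1 % (k + 1)))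
      (rep M ws (entry tab (k + 1) (p.1 / (k + 1)) (p.1 % (k + 1)))) := by
    split_ifs at hcase with hd
    · simp only [Bool.or_eq_true, Bool.and_eq_true, decide_eq_true_eq] at hcase
      rcases hcase with ⟨⟨⟨h0, hg⟩, hy0⟩, hw0⟩ | hw
      · rw [h0] at hy0 ⊢
        rw [hy0]
        show rep M ws 0 * gen M _ * (rep M ws 0)⁻¹ ∈ para M k
        have hg' : gen M (p.1 % (k + 1)) ∈ para M k := gen_mem_para M hg
        rw [rep, hw0, List.map_nil, List.prod_nil, one_mul, inv_one, mul_one]
        exact hg'
      · rw [rep, rep, hw, List.map_append, List.prod_append]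
        simp only [List.map_cons, List.map_nil, List.prod_singleton]
        exact Rel.refl M k _
    · simp only [Bool.and_eq_true, decide_eq_true_eq] at hcase
      obtain ⟨hm, hw⟩ := hcase
      have := walk_sound hS _ _ _ _ _ hp2 (Nat.mod_lt _ (Nat.succ_pos k)) hw
      rwa [alt_eq_gen hm] at this
  intro x g hg hbit
  simp only [stepNew, Nat.testBit_lor, Nat.testBit_two_pow, Bool.or_eq_true,
    decide_eq_true_eq] at hbit
  rcases hbit with (hbit | he) | he
  · exact hS x g hg hbit
  · have h1 : p.1 / (k + 1) = x := by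
      rw [he]; exact Nat.div_eq_of_lt_le (by omega) (by rw [Nat.succ_mul]; omega)
    have h2 : p.1 % (k + 1) = g := by rw [he, Nat.mul_add_mod_of_lt hg]
    rw [h1, h2] at hrel hy
    exact ⟨h1 ▸ hx, hy, hrel⟩
  · generalize hY : entry tab (k + 1) (p.1 / (k + 1)) (p.1 % (k + 1)) = y at hrel hy hback he
    have h1 : y = x := by
      have h1' : (x * (k + 1) + g) / (k + 1) = x :=
        Nat.div_eq_of_lt_le (by omega) (by rw [Nat.succ_mul]; omega)
      have h2' : (y * (k + 1) + p.1 % (k + 1)) / (k + 1) = y :=
        Nat.div_eq_of_lt_le (by omega) (by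
          rw [Nat.succ_mul]; have := Nat.mod_lt p.1 (show k + 1 > 0 by omega); omega)
      rw [← h1', ← he, h2']
    have h2 : p.1 % (k + 1) = g := by subst h1; exact Nat.add_left_cancel he
    subst h1
    rw [h2] at hrel hback
    refine ⟨hy, hback ▸ hx, ?_⟩
    rw [hback]
    have h3 := (hrel.mul_right (gen M g)).symm
    rwa [mul_assoc (rep M ws _), gen_mul_self, mul_one] at h3

theorem replay_sound {k N tab : ℕ} {ws : List (List ℕ)} :
    ∀ (steps : List (ℕ × ℕ)) (known fin : ℕ), Sound M k N tab ws known →
      replay (mNat M) k N tab ws steps known = some fin → Sound M k N tab ws fin := by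
  intro steps
  induction steps with
  | nil => intro known fin hS h; simp only [replay, Option.some.injEq] at h; exact h ▸ hS
  | cons p r ih =>
    intro known fin hS h
    simp only [replay] at h
    split_ifs at h with hok
    exact ih _ _ (stepOK_sound hS hok) h

/-- The matrix of the `i`-th reflection acting on rows. -/
def reflMat (n : ℕ) (A : List (List ℤ)) (i : Fin n) : Matrix (Fin n) (Fin n) ℤ :=
  Matrix.of fun r c => (if r = c then 1 else 0) - if r = i then (A.getD i.1 []).getD c.1 0 else 0

/-- A list as a vector. -/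
def toVec (n : ℕ) (v : List ℤ) : Fin n → ℤ := fun j => v.getD j.1 0

theorem getD_range_map {α : Type*} (f : ℕ → α) {m j : ℕ} (hj : j < m) (d : α) :
    ((List.range m).map f).getD j d = f j := by
  rw [List.getD_eq_getElem?_getD, List.getElem?_map, List.getElem?_range hj]
  rfl

theorem vecMul_reflMat (A : List (List ℤ)) (v : List ℤ) (i : Fin n) :
    Matrix.vecMul (toVec n v) (reflMat n A i) = toVec n (stp n A i.1 v) := by
  funext j
  simp only [Matrix.vecMul, dotProduct, reflMat, Matrix.of_apply, toVec, stp,
    getD_range_map _ j.2]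
  simp only [mul_sub, mul_ite, mul_one, mul_zero, Finset.sum_sub_distrib, Finset.sum_ite_eq',
    Finset.mem_univ, if_true]

theorem toVec_unitVec (k : ℕ) (hk : k < n) : toVec n (unitVec n k) = Pi.single ⟨k, hk⟩ 1 := by
  funext j
  simp only [toVec, unitVec, getD_range_map _ j.2, Pi.single_apply, Fin.ext_iff]

variable (A : List (List ℤ)) (hlift : M.IsLiftable (reflMat n A))

/-- The reflection representation given by a Cartan matrix. -/
noncomputable def rho : M.Group →* Matrix (Fin n) (Fin n) ℤ := M.toCoxeterSystem.lift ⟨_, hlift⟩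

theorem rho_simple (i : Fin n) : rho A hlift (M.simple i) = reflMat n A i := by
  rw [← CoxeterMatrix.toCoxeterSystem_simple]
  exact M.toCoxeterSystem.lift_apply_simple hlift i

theorem unit_fixed {k : ℕ} (hk : k < n) {h : M.Group} (hh : h ∈ para M k) :
    Matrix.vecMul (toVec n (unitVec n k)) (rho A hlift h) = toVec n (unitVec n k) := by
  induction hh using Subgroup.closure_induction with
  | mem g hg =>
    obtain ⟨i, hi, rfl⟩ := hg
    have hi' : i < k := hi
    rw [gen, dif_pos (hi'.trans hk), rho_simple, vecMul_reflMat]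
    funext j
    simp only [toVec, stp, getD_range_map _ j.2]
    rw [show (unitVec n k).getD i 0 = 0 by
      rw [unitVec, getD_range_map _ (hi'.trans hk), if_neg hi'.ne], zero_mul, sub_zero]
  | one => rw [map_one, Matrix.vecMul_one]
  | mul g g' _ _ hg hg' => rw [map_mul, ← Matrix.vecMul_vecMul, hg, hg']
  | inv g _ hg =>
    conv_lhs => rw [← hg, Matrix.vecMul_vecMul, ← map_mul, mul_inv_cancel, map_one,
      Matrix.vecMul_one]

/-- What a level gives. -/
structure LevelFacts (M : CoxeterMatrix (Fin n)) (A : List (List ℤ))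
    (hlift : M.IsLiftable (reflMat n A)) (k : ℕ) (L : Level) : Prop where
  kn : k < n
  card : Nat.card (para M (k + 1)) = Nat.card (para M k) * L.N
  orbit : ∀ g ∈ para M (k + 1),
    ∃ v ∈ L.vs, Matrix.vecMul (toVec n (unitVec n k)) (rho A hlift g) = toVec n v
  step : (∀ g ∈ para M k, rho A hlift g = 1 → g = 1) →
    ∀ g ∈ para M (k + 1), rho A hlift g = 1 → g = 1

theorem level_facts {k : ℕ} {L : Level} (h : L.check n (mNat M) A k = true) :
    LevelFacts M A hlift k L := by
  simp only [Level.check, Bool.and_eq_true, decide_eq_true_eq, List.all_eq_true,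
    List.mem_range] at h
  obtain ⟨⟨⟨⟨⟨⟨⟨⟨hkn, hN⟩, hrep⟩, hw0⟩, hword⟩, hv0⟩, hlen⟩, hnd⟩, hedge⟩ := h
  have hS : Sound M k L.N L.tab L.ws (2 ^ (L.N * (k + 1)) - 1) :=
    replay_sound L.steps 0 _ (fun x g _ hb => by simp at hb) hrep
  have hE : ∀ x g, x < L.N → g < k + 1 → entry L.tab (k + 1) x g < L.N ∧
      Rel M k (rep M L.ws x * gen M g) (rep M L.ws (entry L.tab (k + 1) x g)) := by
    intro x g hx hg
    refine (hS x g hg ?_).2
    rw [Nat.testBit_two_pow_sub_one, decide_eq_true_eq]
    calc x * (k + 1) + g < x * (k + 1) + (k + 1) := by omega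
      _ = (x + 1) * (k + 1) := by rw [Nat.succ_mul]
      _ ≤ L.N * (k + 1) := Nat.mul_le_mul_right _ hx
  have hrepmem : ∀ x, x < L.N → rep M L.ws x ∈ para M (k + 1) := by
    intro x hx
    refine Subgroup.list_prod_mem _ fun w hw => ?_
    obtain ⟨g, hg, rfl⟩ := List.mem_map.1 hw
    exact gen_mem_para M ((hword x hx).1 g hg)
  have hr0 : rep M L.ws 0 = 1 := by rw [rep, hw0, List.map_nil, List.prod_nil]
  -- vectors of the representatives
  have hvec : ∀ x, x < L.N →
      Matrix.vecMul (toVec n (unitVec n k)) (rho A hlift (rep M L.ws x)) =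
        toVec n (L.vs.getD x []) := by
    have key : ∀ (l : List ℕ), (∀ g ∈ l, g < k + 1) → ∀ x, x < L.N →
        Matrix.vecMul (toVec n (L.vs.getD x [])) (rho A hlift (l.map (gen M)).prod) =
          toVec n (L.vs.getD (l.foldl (fun y g => entry L.tab (k + 1) y g) x) []) := by
      intro l
      induction l with
      | nil => intro _ x _; simp
      | cons g r ih =>
        intro hl x hx
        have hg : g < k + 1 := hl g List.mem_cons_self
        rw [List.map_cons, List.prod_cons, map_mul, ← Matrix.vecMul_vecMul, gen,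
          dif_pos (Nat.lt_of_lt_of_le hg hkn), rho_simple, vecMul_reflMat, hedge x hx g hg,
          List.foldl_cons]
        exact ih (fun g' hg' => hl g' (List.mem_cons_of_mem _ hg')) _ (hE x g hx hg).1
    intro x hx
    have := key (L.ws.getD x []) (hword x hx).1 0 hN
    rwa [(hword x hx).2, hv0] at this
  -- vectors of the coordinates separate the list
  have hvlen : ∀ x, x < L.N → (L.vs.getD x []).length = n := by
    intro x hx
    rcases Nat.eq_zero_or_pos x with rfl | hpos
    · rw [hv0]; simp [unitVec]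
    · have := hedge x hx 0 (Nat.succ_pos k)
      obtain ⟨l, g, hlg⟩ : ∃ l g, L.ws.getD x [] = l ++ [g] := by
        rcases List.eq_nil_or_concat (L.ws.getD x []) with h0 | ⟨l, g, h0⟩
        · have := (hword x hx).2; rw [h0] at this; simp at this; omega
        · exact ⟨l, g, by rw [h0, List.concat_eq_append]⟩
      have hf := (hword x hx).2
      rw [hlg, List.foldl_append] at hf
      simp only [List.foldl_cons, List.foldl_nil] at hf
      have hl : ∀ g' ∈ l ++ [g], g' < k + 1 := hlg ▸ (hword x hx).1
      have hlt : ∀ (l : List ℕ), (∀ g ∈ l, g < k + 1) → ∀ y, y < L.N →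
          l.foldl (fun y g => entry L.tab (k + 1) y g) y < L.N := by
        intro l
        induction l with
        | nil => intro _ y hy; exact hy
        | cons g r ih =>
          intro h y hy
          exact ih (fun g' hg' => h g' (List.mem_cons_of_mem _ hg')) _
            (hE y g hy (h g List.mem_cons_self)).1
      have := hedge _ (hlt l (fun g' hg' => hl g' (List.mem_append_left _ hg')) 0 hN) g
        (hl g (by simp))
      rw [hf] at this
      rw [← this]; simp [stp]
  have hvinj : ∀ x y, x < L.N → y < L.N →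
      toVec n (L.vs.getD x []) = toVec n (L.vs.getD y []) → x = y := by
    intro x y hx hy he
    have hl : L.vs.getD x [] = L.vs.getD y [] := by
      apply List.ext_getElem (by rw [hvlen x hx, hvlen y hy])
      intro j hj hj'
      have := congrFun he ⟨j, hvlen x hx ▸ hj⟩
      rw [← List.getD_eq_getElem _ 0 hj, ← List.getD_eq_getElem _ 0 hj']
      exact this
    rw [List.getD_eq_getElem _ _ (hlen ▸ hx), List.getD_eq_getElem _ _ (hlen ▸ hy)] at hl
    exact (hnd.getElem_inj_iff).1 hl
  -- cosets
  have hfac : ∀ g ∈ para M (k + 1), ∃ x, x < L.N ∧ g * (rep M L.ws x)⁻¹ ∈ para M k := by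
    have hP : ∀ g ∈ para M (k + 1),
        (∀ x, x < L.N → ∃ y, y < L.N ∧ Rel M k (rep M L.ws x * g) (rep M L.ws y)) ∧
        (∀ x, x < L.N → ∃ y, y < L.N ∧ Rel M k (rep M L.ws x * g⁻¹) (rep M L.ws y)) := by
      intro g hg
      induction hg using Subgroup.closure_induction with
      | mem g hg =>
        obtain ⟨i, hi, rfl⟩ := hg
        rw [gen_inv]
        exact ⟨fun x hx => ⟨_, (hE x i hx hi).1, (hE x i hx hi).2⟩,
          fun x hx => ⟨_, (hE x i hx hi).1, (hE x i hx hi).2⟩⟩
      | one =>
        rw [inv_one]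
        exact ⟨fun x hx => ⟨x, hx, by rw [mul_one]; exact Rel.refl M k _⟩,
          fun x hx => ⟨x, hx, by rw [mul_one]; exact Rel.refl M k _⟩⟩
      | mul g g' _ _ hg hg' =>
        refine ⟨fun x hx => ?_, fun x hx => ?_⟩
        · obtain ⟨y, hy, r⟩ := hg.1 x hx
          obtain ⟨z, hz, r'⟩ := hg'.1 y hy
          exact ⟨z, hz, by rw [← mul_assoc]; exact (r.mul_right g').trans r'⟩
        · obtain ⟨y, hy, r⟩ := hg'.2 x hx
          obtain ⟨z, hz, r'⟩ := hg.2 y hy
          exact ⟨z, hz, by rw [mul_inv_rev, ← mul_assoc]; exact (r.mul_right _).trans r'⟩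
      | inv g _ hg => rw [inv_inv]; exact ⟨hg.2, hg.1⟩
    intro g hg
    obtain ⟨y, hy, r⟩ := (hP g hg).1 0 hN
    rw [hr0, one_mul] at r
    exact ⟨y, hy, r⟩
  refine ⟨hkn, ?_, ?_, ?_⟩
  · rw [show L.N = Nat.card (Fin L.N) from (Nat.card_fin _).symm, ← Nat.card_prod]
    refine (Nat.card_eq_of_bijective
      (fun p : para M k × Fin L.N => (⟨p.1.1 * rep M L.ws p.2.1,
        mul_mem (para_le_succ M k p.1.2) (hrepmem _ p.2.2)⟩ : para M (k + 1))) ⟨?_, ?_⟩).symm
    · rintro ⟨h1, x⟩ ⟨h2, y⟩ he
      have he' : h1.1 * rep M L.ws x.1 = h2.1 * rep M L.ws y.1 := congrArg Subtype.val he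
      have hxy : x.1 = y.1 := by
        refine hvinj _ _ x.2 y.2 ?_
        rw [← hvec _ x.2, ← hvec _ y.2]
        have := congrArg (fun w => Matrix.vecMul (toVec n (unitVec n k)) (rho A hlift w)) he'
        simpa only [map_mul, ← Matrix.vecMul_vecMul, unit_fixed A hlift hkn h1.2,
          unit_fixed A hlift hkn h2.2] using this
      rw [hxy] at he'
      exact Prod.ext (Subtype.ext (mul_right_cancel he')) (Fin.ext hxy)
    · rintro ⟨g, hg⟩
      obtain ⟨x, hx, hh⟩ := hfac g hg
      exact ⟨(⟨_, hh⟩, ⟨x, hx⟩), Subtype.ext (by simp)⟩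
  · intro g hg
    obtain ⟨x, hx, hh⟩ := hfac g hg
    refine ⟨L.vs.getD x [], ?_, ?_⟩
    · rw [List.getD_eq_getElem _ _ (hlen ▸ hx)]
      exact List.getElem_mem _
    · rw [← hvec x hx]
      conv_lhs => rw [show g = g * (rep M L.ws x)⁻¹ * rep M L.ws x by group, map_mul,
        ← Matrix.vecMul_vecMul, unit_fixed A hlift hkn hh]
  · intro hk g hg h1
    obtain ⟨x, hx, hh⟩ := hfac g hg
    have hx0 : x = 0 := by
      refine hvinj x 0 hx hN ?_
      rw [← hvec x hx, hv0]
      conv_rhs => rw [← Matrix.vecMul_one (toVec n (unitVec n k)), ← h1,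
        show g = g * (rep M L.ws x)⁻¹ * rep M L.ws x by group, map_mul,
        ← Matrix.vecMul_vecMul, unit_fixed A hlift hkn hh]
    subst hx0
    rw [hr0, inv_one, mul_one] at hh
    exact hk g hh h1

/-- A certificate for all levels. -/
def checkAll (n : ℕ) (m : ℕ → ℕ → ℕ) (A : List (List ℤ)) (Ls : List Level) : Bool :=
  decide (Ls.length = n) &&
    (List.range n).all fun k => (Ls.getD k ⟨0, 0, [], [], []⟩).check n m A k

theorem finite_and_card {Ls : List Level} (h : checkAll n (mNat M) A Ls = true)
    (hl : M.IsLiftable (reflMat n A)) :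
    Nat.card M.Group = (Ls.map Level.N).prod ∧ Function.Injective (rho A hl) ∧
      ∀ L, Ls.getLast? = some L → ∀ g, ∃ v ∈ L.vs,
        Matrix.vecMul (toVec n (unitVec n (n - 1))) (rho A hl g) = toVec n v := by
  simp only [checkAll, Bool.and_eq_true, decide_eq_true_eq, List.all_eq_true, List.mem_range] at h
  obtain ⟨hlen, hall⟩ := h
  have key : ∀ k, k ≤ n → Nat.card (para M k) = ((Ls.take k).map Level.N).prod ∧
      ∀ g ∈ para M k, rho A hl g = 1 → g = 1 := by
    intro k
    induction k with
    | zero =>
      intro _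
      rw [para_zero, Subgroup.card_bot]
      exact ⟨by simp, fun g hg _ => Subgroup.mem_bot.1 hg⟩
    | succ k ih =>
      intro hk
      obtain ⟨ih1, ih2⟩ := ih (by omega)
      have F := level_facts A hl (hall k (by omega))
      refine ⟨?_, F.step ih2⟩
      rw [F.card, ih1, List.take_succ_eq_append_getElem (by omega : k < Ls.length),
        List.map_append, List.prod_append, List.getD_eq_getElem _ _ (by omega : k < Ls.length)]
      simp
  obtain ⟨h1, h2⟩ := key n le_rfl
  rw [para_top, Subgroup.card_top, List.take_of_length_le hlen.le] at h1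
  rw [para_top] at h2
  refine ⟨h1, (injective_iff_map_eq_one _).2 fun g hg => h2 g trivial hg, ?_⟩
  intro L hL g
  have hne : Ls ≠ [] := by rintro rfl; simp at hL
  have hpos : 0 < n := hlen ▸ List.length_pos_iff.2 hne
  have F := level_facts A hl (hall (n - 1) (by omega))
  have hLeq : Ls.getD (n - 1) ⟨0, 0, [], [], []⟩ = L := by
    rw [List.getLast?_eq_getElem?, hlen] at hL
    rw [List.getD_eq_getElem?_getD, hL]; rfl
  rw [hLeq] at F
  exact F.orbit g (by rw [Nat.sub_add_cancel hpos, para_top]; trivial)

end Cfsg.Agent.WeylFin
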