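import Cfsg.Agent.Lib.WeylFin.DataD4
import Cfsg.Prelude.Def_ChevStructure

/-! The certificate of type D4 is valid. -/

set_option autoImplicit false

namespace Cfsg.Agent.WeylFin.D4

theorem check_ok :
    checkAll 4 (mNat Cfsg.Lie.coxeterD4) cartan levels = true := by
  decide +kernel

theorem liftable : Cfsg.Lie.coxeterD4.IsLiftable (reflMat 4 cartan) := by
  unfold CoxeterMatrix.IsLiftable
  decide +kernel

end Cfsg.Agent.WeylFin.D4
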