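import Cfsg.Agent.Lib.WeylFin.DataE6

/-! The certificate of type E6 is valid. -/

set_option autoImplicit false

namespace Cfsg.Agent.WeylFin.E6

theorem check_ok :
    checkAll 6 (mNat CoxeterMatrix.E₆) cartan levels = true := by
  decide +kernel

theorem liftable : CoxeterMatrix.E₆.IsLiftable (reflMat 6 cartan) := by
  unfold CoxeterMatrix.IsLiftable
  decide +kernel

end Cfsg.Agent.WeylFin.E6
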