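import Cfsg.Agent.Lib.WeylFin.DataE8

/-! The certificate of type E8 is valid. -/

set_option autoImplicit false

namespace Cfsg.Agent.WeylFin.E8

theorem check_ok :
    checkAll 8 (mNat CoxeterMatrix.E₈) cartan levels = true := by
  decide +kernel

theorem liftable : CoxeterMatrix.E₈.IsLiftable (reflMat 8 cartan) := by
  unfold CoxeterMatrix.IsLiftable
  decide +kernel

end Cfsg.Agent.WeylFin.E8
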