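import Cfsg.Agent.Lib.WeylFin.DataG2

/-! The certificate of type G2 is valid. -/

set_option autoImplicit false

namespace Cfsg.Agent.WeylFin.G2

theorem check_ok :
    checkAll 2 (mNat CoxeterMatrix.G₂) cartan levels = true := by
  decide +kernel

theorem liftable : CoxeterMatrix.G₂.IsLiftable (reflMat 2 cartan) := by
  unfold CoxeterMatrix.IsLiftable
  decide +kernel

end Cfsg.Agent.WeylFin.G2
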