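import Cfsg.Agent.Lib.WeylFin.Cert

/-! Coset-table certificate for the Coxeter group of type B2, generated by a script. -/

set_option autoImplicit false
set_option maxRecDepth 10000

namespace Cfsg.Agent.WeylFin.B2

/-- A Cartan matrix. -/
def cartan : List (List ℤ) := [[2, -1], [-2, 2]]

/-- Level 0. -/
noncomputable def level0 : Level where
  N := 2
  tab := 0x1
  ws :=
    ([[], [0]] : List (List ℕ))
  steps :=
    ([(0, 0)] : List (ℕ × ℕ))
  vs :=
    ([[1, 0], [-1, 1]] : List (List ℤ))

/-- Level 1. -/
noncomputable def level1 : Level where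
  N := 4
  tab := 0x203030100020100
  ws :=
    ([[], [1], [1, 0], [1, 0, 1]] : List (List ℕ))
  steps :=
    ([(0, 0), (1, 1), (2, 0), (5, 1), (6, 1)] : List (ℕ × ℕ))
  vs :=
    ([[0, 1], [2, -1], [-2, 1], [0, -1]] : List (List ℤ))

/-- All levels. -/
noncomputable def levels : List Level := [level0, level1]

end Cfsg.Agent.WeylFin.B2
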