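import Cfsg.Agent.Lib.WeylFin.Cert

/-! Coset-table certificate for the Coxeter group of type D4, generated by a script. -/

set_option autoImplicit false
set_option maxRecDepth 10000

namespace Cfsg.Agent.WeylFin.D4

/-- A Cartan matrix. -/
def cartan : List (List ℤ) := [[2, -1, 0, 0], [-1, 2, -1, -1], [0, -1, 2, 0], [0, -1, 0, 2]]

/-- Level 0. -/
noncomputable def level0 : Level where
  N := 2
  tab := 0x1
  ws :=
    ([[], [0]] : List (List ℕ))
  steps :=
    ([(0, 0)] : List (ℕ × ℕ))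
  vs :=
    ([[1, 0, 0, 0], [-1, 1, 0, 0]] : List (List ℤ))

/-- Level 1. -/
noncomputable def level1 : Level where
  N := 3
  tab := 0x20100020100
  ws :=
    ([[], [1], [1, 0]] : List (List ℕ))
  steps :=
    ([(0, 0), (1, 1), (2, 0), (5, 0)] : List (ℕ × ℕ))
  vs :=
    ([[0, 1, 0, 0], [1, -1, 1, 1], [-1, 0, 1, 1]] : List (List ℤ))

/-- Level 2. -/
noncomputable def level2 : Level where
  N := 4
  tab := 0x30302020103000201010000
  ws :=
    ([[], [2], [2, 1], [2, 1, 0]] : List (List ℕ))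
  steps :=
    ([(0, 0), (1, 1), (2, 2), (4, 1), (6, 0), (3, 2), (8, 1), (10, 0),
      (11, 0)] : List (ℕ × ℕ))
  vs :=
    ([[0, 0, 1, 0], [0, 1, -1, 0], [1, -1, 0, 1], [-1, 0, 0, 1]] : List (List ℤ))

/-- Level 3. -/
noncomputable def level3 : Level where
  N := 8
  tab := 0x607070707060506050306040402040503050302020401030001020101000000
  ws :=
    ([[], [3], [3, 1], [3, 1, 0],
      [3, 1, 2], [3, 1, 0, 2], [3, 1, 0, 2, 1], [3, 1, 0, 2, 1, 3]] : List (List ℕ))
  steps :=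
    ([(0, 0), (1, 1), (2, 2), (3, 3), (5, 1), (8, 0), (10, 2), (14, 2),
      (21, 1), (27, 3), (4, 3), (6, 3), (11, 1), (13, 0), (15, 0), (16, 2),
      (17, 2), (19, 2), (23, 0), (24, 1), (26, 1), (28, 3), (29, 3), (30, 3)] : List (ℕ × ℕ))
  vs :=
    ([[0, 0, 0, 1], [0, 1, 0, -1], [1, -1, 1, 0], [-1, 0, 1, 0],
      [1, 0, -1, 0], [-1, 1, -1, 0], [0, -1, 0, 1], [0, 0, 0, -1]] : List (List ℤ))

/-- All levels. -/
noncomputable def levels : List Level := [level0, level1, level2, level3]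

end Cfsg.Agent.WeylFin.D4
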