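import Cfsg.Agent.Lib.WeylFin.Cert

/-! Coset-table certificate for the Coxeter group of type E6, generated by a script. -/

set_option autoImplicit false
set_option maxRecDepth 10000

namespace Cfsg.Agent.WeylFin.E6

/-- A Cartan matrix. -/
def cartan : List (List ℤ) := [[2, 0, -1, 0, 0, 0], [0, 2, 0, -1, 0, 0], [-1, 0, 2, -1, 0, 0], [0, -1, -1, 2, -1, 0], [0, 0, 0, -1, 2, -1], [0, 0, 0, 0, -1, 2]]

/-- Level 0. -/
noncomputable def level0 : Level where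
  N := 2
  tab := 0x1
  ws :=
    ([[], [0]] : List (List ℕ))
  steps :=
    ([(0, 0)] : List (ℕ × ℕ))
  vs :=
    ([[1, 0, 0, 0, 0, 0], [-1, 0, 1, 0, 0, 0]] : List (List ℤ))

/-- Level 1. -/
noncomputable def level1 : Level where
  N := 2
  tab := 0x10100
  ws :=
    ([[], [1]] : List (List ℕ))
  steps :=
    ([(0, 0), (1, 1), (2, 1)] : List (ℕ × ℕ))
  vs :=
    ([[0, 1, 0, 0, 0, 0], [0, -1, 0, 1, 0, 0]] : List (List ℤ))

/-- Level 2. -/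
noncomputable def level2 : Level where
  N := 3
  tab := 0x20201000102010000
  ws :=
    ([[], [2], [2, 0]] : List (List ℕ))
  steps :=
    ([(0, 0), (1, 1), (2, 2), (3, 0), (4, 2), (7, 0), (8, 0)] : List (ℕ × ℕ))
  vs :=
    ([[0, 0, 1, 0, 0, 0], [1, 0, -1, 1, 0, 0], [-1, 0, 0, 1, 0, 0]] : List (List ℤ))

/-- Level 3. -/
noncomputable def level3 : Level where
  N := 10
  tab := 0x9080909060908070407070808060504050506030702030603010405020401020003020101000000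
  ws :=
    ([[], [3], [3, 1], [3, 2],
      [3, 1, 2], [3, 2, 0], [3, 1, 2, 0], [3, 1, 2, 3],
      [3, 1, 2, 0, 3], [3, 1, 2, 0, 3, 2]] : List (List ℕ))
  steps :=
    ([(0, 0), (1, 1), (2, 2), (3, 3), (5, 1), (6, 2), (10, 2), (12, 0),
      (16, 0), (19, 3), (27, 3), (34, 2), (4, 3), (8, 1), (11, 1), (13, 2),
      (15, 2), (21, 0), (22, 0), (23, 0), (26, 0), (28, 3), (29, 3), (30, 3),
      (33, 0), (36, 2), (37, 2), (39, 2)] : List (ℕ × ℕ))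
  vs :=
    ([[0, 0, 0, 1, 0, 0], [0, 1, 1, -1, 1, 0], [0, -1, 1, 0, 1, 0], [1, 1, -1, 0, 1, 0],
      [1, -1, -1, 1, 1, 0], [-1, 1, 0, 0, 1, 0], [-1, -1, 0, 1, 1, 0], [1, 0, 0, -1, 2, 0],
      [-1, 0, 1, -1, 2, 0], [0, 0, -1, 0, 2, 0]] : List (List ℤ))

/-- Level 4. -/
noncomputable def level4 : Level where
  N := 16
  tab := 0xf0f0f0e0f0e0d0e0f0e0b0e0c0d0d090c0d0c0a0d0b090b0b080a0a0a0c0c070b09080a0508080907090706050606060704050803040704040205060303050203020104030200020101010100000000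
  ws :=
    ([[], [4], [4, 3], [4, 3, 1],
      [4, 3, 2], [4, 3, 1, 2], [4, 3, 2, 0], [4, 3, 1, 2, 0],
      [4, 3, 1, 2, 3], [4, 3, 1, 2, 0, 3], [4, 3, 1, 2, 3, 4], [4, 3, 1, 2, 0, 3, 2],
      [4, 3, 1, 2, 0, 3, 4], [4, 3, 1, 2, 0, 3, 2, 4], [4, 3, 1, 2, 0, 3, 2, 4, 3], [4, 3, 1, 2, 0, 3, 2, 4, 3, 1]] : List (List ℕ))
  steps :=
    ([(0, 0), (1, 1), (2, 2), (3, 3), (4, 4), (8, 3), (11, 1), (12, 2),
      (17, 2), (20, 0), (25, 0), (28, 3), (38, 3), (44, 4), (47, 2), (49, 4),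
      (59, 4), (68, 3), (71, 1), (5, 4), (6, 4), (7, 4), (10, 3), (14, 3),
      (15, 1), (18, 1), (19, 1), (21, 2), (23, 2), (24, 2), (29, 1), (31, 0)] : List (ℕ × ℕ)) ++
    ([(32, 0), (33, 0), (34, 0), (37, 0), (39, 0), (40, 3), (41, 3), (42, 3),
      (46, 0), (50, 4), (51, 4), (52, 4), (53, 4), (55, 2), (56, 2), (58, 2),
      (61, 0), (62, 4), (63, 0), (65, 2), (66, 2), (70, 3), (72, 3), (74, 3),
      (75, 1), (77, 1), (78, 1), (79, 1)] : List (ℕ × ℕ))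
  vs :=
    ([[0, 0, 0, 0, 1, 0], [0, 0, 0, 1, -1, 1], [0, 1, 1, -1, 0, 1], [0, -1, 1, 0, 0, 1],
      [1, 1, -1, 0, 0, 1], [1, -1, -1, 1, 0, 1], [-1, 1, 0, 0, 0, 1], [-1, -1, 0, 1, 0, 1],
      [1, 0, 0, -1, 1, 1], [-1, 0, 1, -1, 1, 1], [1, 0, 0, 0, -1, 2], [0, 0, -1, 0, 1, 1],
      [-1, 0, 1, 0, -1, 2], [0, 0, -1, 1, -1, 2], [0, 1, 0, -1, 0, 2], [0, -1, 0, 0, 0, 2]] : List (List ℤ))

/-- Level 5. -/
noncomputable def level5 : Level where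
  N := 27
  tab := 0x1a1a1a1a1a1919191918191a1818171918181715181716171614161617161317151514151116121415141513131311130f121410121214110f1113110d101012100e120c110d0f0f0b0e0e0e0e10100a0d0f0d0b0c0f0c0a0c0c0e090b0b0b0d0a0d080c0a09090b0609090a08080a080706070707070805060609040508050505030607040404060304030302050403020103020202000201010101010000000000
  ws :=
    ([[], [5], [5, 4], [5, 4, 3],
      [5, 4, 3, 1], [5, 4, 3, 2], [5, 4, 3, 1, 2], [5, 4, 3, 2, 0],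
      [5, 4, 3, 1, 2, 0], [5, 4, 3, 1, 2, 3], [5, 4, 3, 1, 2, 0, 3], [5, 4, 3, 1, 2, 3, 4],
      [5, 4, 3, 1, 2, 0, 3, 2], [5, 4, 3, 1, 2, 0, 3, 4], [5, 4, 3, 1, 2, 3, 4, 5], [5, 4, 3, 1, 2, 0, 3, 2, 4],
      [5, 4, 3, 1, 2, 0, 3, 4, 5], [5, 4, 3, 1, 2, 0, 3, 2, 4, 3], [5, 4, 3, 1, 2, 0, 3, 2, 4, 5], [5, 4, 3, 1, 2, 0, 3, 2, 4, 3, 1],
      [5, 4, 3, 1, 2, 0, 3, 2, 4, 3, 5], [5, 4, 3, 1, 2, 0, 3, 2, 4, 3, 1, 5], [5, 4, 3, 1, 2, 0, 3, 2, 4, 3, 5, 4], [5, 4, 3, 1, 2, 0, 3, 2, 4, 3, 1, 5, 4],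
      [5, 4, 3, 1, 2, 0, 3, 2, 4, 3, 1, 5, 4, 3], [5, 4, 3, 1, 2, 0, 3, 2, 4, 3, 1, 5, 4, 3, 2], [5, 4, 3, 1, 2, 0, 3, 2, 4, 3, 1, 5, 4, 3, 2, 0]] : List (List ℕ))
  steps :=
    ([(0, 0), (1, 1), (2, 2), (3, 3), (4, 4), (5, 5), (10, 4), (15, 3),
      (19, 1), (20, 2), (26, 2), (30, 0), (36, 0), (39, 3), (51, 3), (58, 4),
      (62, 2), (64, 4), (71, 5), (76, 4), (83, 5), (93, 3), (95, 5), (103, 1),
      (107, 5), (119, 5), (124, 4), (130, 4), (141, 3), (146, 2), (150, 0), (6, 5)] : List (ℕ × ℕ)) ++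
    ([(7, 5), (8, 5), (9, 5), (12, 4), (13, 4), (14, 4), (17, 4), (18, 3),
      (22, 3), (23, 3), (24, 1), (27, 1), (28, 1), (29, 1), (31, 2), (33, 2),
      (34, 2), (35, 2), (40, 1), (41, 1), (43, 0), (44, 0), (45, 0), (46, 0),
      (47, 0), (50, 0), (52, 0), (53, 0), (54, 3), (55, 3), (56, 3), (59, 3)] : List (ℕ × ℕ)) ++
    ([(61, 0), (65, 0), (66, 4), (67, 4), (68, 4), (69, 4), (72, 2), (73, 2),
      (75, 2), (77, 2), (79, 0), (80, 4), (81, 0), (84, 5), (85, 5), (86, 5),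
      (87, 5), (88, 5), (90, 2), (91, 2), (97, 0), (98, 5), (99, 0), (100, 0),
      (102, 3), (104, 3), (106, 3), (108, 2), (109, 2), (111, 5), (112, 2), (114, 1)] : List (ℕ × ℕ)) ++
    ([(116, 1), (117, 1), (118, 1), (120, 3), (121, 5), (122, 3), (126, 1), (128, 1),
      (129, 1), (132, 4), (133, 4), (134, 4), (135, 4), (137, 4), (138, 1), (140, 1),
      (143, 1), (144, 3), (145, 3), (148, 3), (149, 3), (151, 2), (153, 2), (154, 2),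
      (155, 2), (157, 0), (158, 0), (159, 0), (160, 0), (161, 0)] : List (ℕ × ℕ))
  vs :=
    ([[0, 0, 0, 0, 0, 1], [0, 0, 0, 0, 1, -1], [0, 0, 0, 1, -1, 0], [0, 1, 1, -1, 0, 0],
      [0, -1, 1, 0, 0, 0], [1, 1, -1, 0, 0, 0], [1, -1, -1, 1, 0, 0], [-1, 1, 0, 0, 0, 0],
      [-1, -1, 0, 1, 0, 0], [1, 0, 0, -1, 1, 0], [-1, 0, 1, -1, 1, 0], [1, 0, 0, 0, -1, 1],
      [0, 0, -1, 0, 1, 0], [-1, 0, 1, 0, -1, 1], [1, 0, 0, 0, 0, -1], [0, 0, -1, 1, -1, 1],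
      [-1, 0, 1, 0, 0, -1], [0, 1, 0, -1, 0, 1], [0, 0, -1, 1, 0, -1], [0, -1, 0, 0, 0, 1],
      [0, 1, 0, -1, 1, -1], [0, -1, 0, 0, 1, -1], [0, 1, 0, 0, -1, 0], [0, -1, 0, 1, -1, 0],
      [0, 0, 1, -1, 0, 0], [1, 0, -1, 0, 0, 0], [-1, 0, 0, 0, 0, 0]] : List (List ℤ))

/-- All levels. -/
noncomputable def levels : List Level := [level0, level1, level2, level3, level4, level5]

end Cfsg.Agent.WeylFin.E6
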