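import Cfsg.Agent.Lib.WeylFin.Cert

/-! Coset-table certificate for the Coxeter group of type E7, generated by a script. -/

set_option autoImplicit false
set_option maxRecDepth 10000

namespace Cfsg.Agent.WeylFin.E7

/-- A Cartan matrix. -/
def cartan : List (List ℤ) := [[2, 0, -1, 0, 0, 0, 0], [0, 2, 0, -1, 0, 0, 0], [-1, 0, 2, -1, 0, 0, 0], [0, -1, -1, 2, -1, 0, 0], [0, 0, 0, -1, 2, -1, 0], [0, 0, 0, 0, -1, 2, -1], [0, 0, 0, 0, 0, -1, 2]]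

/-- Level 0. -/
noncomputable def level0 : Level where
  N := 2
  tab := 0x1
  ws :=
    ([[], [0]] : List (List ℕ))
  steps :=
    ([(0, 0)] : List (ℕ × ℕ))
  vs :=
    ([[1, 0, 0, 0, 0, 0, 0], [-1, 0, 1, 0, 0, 0, 0]] : List (List ℤ))

/-- Level 1. -/
noncomputable def level1 : Level where
  N := 2
  tab := 0x10100
  ws :=
    ([[], [1]] : List (List ℕ))
  steps :=
    ([(0, 0), (1, 1), (2, 1)] : List (ℕ × ℕ))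
  vs :=
    ([[0, 1, 0, 0, 0, 0, 0], [0, -1, 0, 1, 0, 0, 0]] : List (List ℤ))

/-- Level 2. -/
noncomputable def level2 : Level where
  N := 3
  tab := 0x20201000102010000
  ws :=
    ([[], [2], [2, 0]] : List (List ℕ))
  steps :=
    ([(0, 0), (1, 1), (2, 2), (3, 0), (4, 2), (7, 0), (8, 0)] : List (ℕ × ℕ))
  vs :=
    ([[0, 0, 1, 0, 0, 0, 0], [1, 0, -1, 1, 0, 0, 0], [-1, 0, 0, 1, 0, 0, 0]] : List (List ℤ))

/-- Level 3. -/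
noncomputable def level3 : Level where
  N := 10
  tab := 0x9080909060908070407070808060504050506030702030603010405020401020003020101000000
  ws :=
    ([[], [3], [3, 1], [3, 2],
      [3, 1, 2], [3, 2, 0], [3, 1, 2, 0], [3, 1, 2, 3],
      [3, 1, 2, 0, 3], [3, 1, 2, 0, 3, 2]] : List (List ℕ))
  steps :=
    ([(0, 0), (1, 1), (2, 2), (3, 3), (5, 1), (6, 2), (10, 2), (12, 0),
      (16, 0), (19, 3), (27, 3), (34, 2), (4, 3), (8, 1), (11, 1), (13, 2),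
      (15, 2), (21, 0), (22, 0), (23, 0), (26, 0), (28, 3), (29, 3), (30, 3),
      (33, 0), (36, 2), (37, 2), (39, 2)] : List (ℕ × ℕ))
  vs :=
    ([[0, 0, 0, 1, 0, 0, 0], [0, 1, 1, -1, 1, 0, 0], [0, -1, 1, 0, 1, 0, 0], [1, 1, -1, 0, 1, 0, 0],
      [1, -1, -1, 1, 1, 0, 0], [-1, 1, 0, 0, 1, 0, 0], [-1, -1, 0, 1, 1, 0, 0], [1, 0, 0, -1, 2, 0, 0],
      [-1, 0, 1, -1, 2, 0, 0], [0, 0, -1, 0, 2, 0, 0]] : List (List ℤ))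

/-- Level 4. -/
noncomputable def level4 : Level where
  N := 16
  tab := 0xf0f0f0e0f0e0d0e0f0e0b0e0c0d0d090c0d0c0a0d0b090b0b080a0a0a0c0c070b09080a0508080907090706050606060704050803040704040205060303050203020104030200020101010100000000
  ws :=
    ([[], [4], [4, 3], [4, 3, 1],
      [4, 3, 2], [4, 3, 1, 2], [4, 3, 2, 0], [4, 3, 1, 2, 0],
      [4, 3, 1, 2, 3], [4, 3, 1, 2, 0, 3], [4, 3, 1, 2, 3, 4], [4, 3, 1, 2, 0, 3, 2],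
      [4, 3, 1, 2, 0, 3, 4], [4, 3, 1, 2, 0, 3, 2, 4], [4, 3, 1, 2, 0, 3, 2, 4, 3], [4, 3, 1, 2, 0, 3, 2, 4, 3, 1]] : List (List ℕ))
  steps :=
    ([(0, 0), (1, 1), (2, 2), (3, 3), (4, 4), (8, 3), (11, 1), (12, 2),
      (17, 2), (20, 0), (25, 0), (28, 3), (38, 3), (44, 4), (47, 2), (49, 4),
      (59, 4), (68, 3), (71, 1), (5, 4), (6, 4), (7, 4), (10, 3), (14, 3),
      (15, 1), (18, 1), (19, 1), (21, 2), (23, 2), (24, 2), (29, 1), (31, 0)] : List (ℕ × ℕ)) ++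
    ([(32, 0), (33, 0), (34, 0), (37, 0), (39, 0), (40, 3), (41, 3), (42, 3),
      (46, 0), (50, 4), (51, 4), (52, 4), (53, 4), (55, 2), (56, 2), (58, 2),
      (61, 0), (62, 4), (63, 0), (65, 2), (66, 2), (70, 3), (72, 3), (74, 3),
      (75, 1), (77, 1), (78, 1), (79, 1)] : List (ℕ × ℕ))
  vs :=
    ([[0, 0, 0, 0, 1, 0, 0], [0, 0, 0, 1, -1, 1, 0], [0, 1, 1, -1, 0, 1, 0], [0, -1, 1, 0, 0, 1, 0],
      [1, 1, -1, 0, 0, 1, 0], [1, -1, -1, 1, 0, 1, 0], [-1, 1, 0, 0, 0, 1, 0], [-1, -1, 0, 1, 0, 1, 0],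
      [1, 0, 0, -1, 1, 1, 0], [-1, 0, 1, -1, 1, 1, 0], [1, 0, 0, 0, -1, 2, 0], [0, 0, -1, 0, 1, 1, 0],
      [-1, 0, 1, 0, -1, 2, 0], [0, 0, -1, 1, -1, 2, 0], [0, 1, 0, -1, 0, 2, 0], [0, -1, 0, 0, 0, 2, 0]] : List (List ℤ))

/-- Level 5. -/
noncomputable def level5 : Level where
  N := 27
  tab := 0x1a1a1a1a1a1919191918191a1818171918181715181716171614161617161317151514151116121415141513131311130f121410121214110f1113110d101012100e120c110d0f0f0b0e0e0e0e10100a0d0f0d0b0c0f0c0a0c0c0e090b0b0b0d0a0d080c0a09090b0609090a08080a080706070707070805060609040508050505030607040404060304030302050403020103020202000201010101010000000000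
  ws :=
    ([[], [5], [5, 4], [5, 4, 3],
      [5, 4, 3, 1], [5, 4, 3, 2], [5, 4, 3, 1, 2], [5, 4, 3, 2, 0],
      [5, 4, 3, 1, 2, 0], [5, 4, 3, 1, 2, 3], [5, 4, 3, 1, 2, 0, 3], [5, 4, 3, 1, 2, 3, 4],
      [5, 4, 3, 1, 2, 0, 3, 2], [5, 4, 3, 1, 2, 0, 3, 4], [5, 4, 3, 1, 2, 3, 4, 5], [5, 4, 3, 1, 2, 0, 3, 2, 4],
      [5, 4, 3, 1, 2, 0, 3, 4, 5], [5, 4, 3, 1, 2, 0, 3, 2, 4, 3], [5, 4, 3, 1, 2, 0, 3, 2, 4, 5], [5, 4, 3, 1, 2, 0, 3, 2, 4, 3, 1],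
      [5, 4, 3, 1, 2, 0, 3, 2, 4, 3, 5], [5, 4, 3, 1, 2, 0, 3, 2, 4, 3, 1, 5], [5, 4, 3, 1, 2, 0, 3, 2, 4, 3, 5, 4], [5, 4, 3, 1, 2, 0, 3, 2, 4, 3, 1, 5, 4],
      [5, 4, 3, 1, 2, 0, 3, 2, 4, 3, 1, 5, 4, 3], [5, 4, 3, 1, 2, 0, 3, 2, 4, 3, 1, 5, 4, 3, 2], [5, 4, 3, 1, 2, 0, 3, 2, 4, 3, 1, 5, 4, 3, 2, 0]] : List (List ℕ))
  steps :=
    ([(0, 0), (1, 1), (2, 2), (3, 3), (4, 4), (5, 5), (10, 4), (15, 3),
      (19, 1), (20, 2), (26, 2), (30, 0), (36, 0), (39, 3), (51, 3), (58, 4),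
      (62, 2), (64, 4), (71, 5), (76, 4), (83, 5), (93, 3), (95, 5), (103, 1),
      (107, 5), (119, 5), (124, 4), (130, 4), (141, 3), (146, 2), (150, 0), (6, 5)] : List (ℕ × ℕ)) ++
    ([(7, 5), (8, 5), (9, 5), (12, 4), (13, 4), (14, 4), (17, 4), (18, 3),
      (22, 3), (23, 3), (24, 1), (27, 1), (28, 1), (29, 1), (31, 2), (33, 2),
      (34, 2), (35, 2), (40, 1), (41, 1), (43, 0), (44, 0), (45, 0), (46, 0),
      (47, 0), (50, 0), (52, 0), (53, 0), (54, 3), (55, 3), (56, 3), (59, 3)] : List (ℕ × ℕ)) ++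
    ([(61, 0), (65, 0), (66, 4), (67, 4), (68, 4), (69, 4), (72, 2), (73, 2),
      (75, 2), (77, 2), (79, 0), (80, 4), (81, 0), (84, 5), (85, 5), (86, 5),
      (87, 5), (88, 5), (90, 2), (91, 2), (97, 0), (98, 5), (99, 0), (100, 0),
      (102, 3), (104, 3), (106, 3), (108, 2), (109, 2), (111, 5), (112, 2), (114, 1)] : List (ℕ × ℕ)) ++
    ([(116, 1), (117, 1), (118, 1), (120, 3), (121, 5), (122, 3), (126, 1), (128, 1),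
      (129, 1), (132, 4), (133, 4), (134, 4), (135, 4), (137, 4), (138, 1), (140, 1),
      (143, 1), (144, 3), (145, 3), (148, 3), (149, 3), (151, 2), (153, 2), (154, 2),
      (155, 2), (157, 0), (158, 0), (159, 0), (160, 0), (161, 0)] : List (ℕ × ℕ))
  vs :=
    ([[0, 0, 0, 0, 0, 1, 0], [0, 0, 0, 0, 1, -1, 1], [0, 0, 0, 1, -1, 0, 1], [0, 1, 1, -1, 0, 0, 1],
      [0, -1, 1, 0, 0, 0, 1], [1, 1, -1, 0, 0, 0, 1], [1, -1, -1, 1, 0, 0, 1], [-1, 1, 0, 0, 0, 0, 1],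
      [-1, -1, 0, 1, 0, 0, 1], [1, 0, 0, -1, 1, 0, 1], [-1, 0, 1, -1, 1, 0, 1], [1, 0, 0, 0, -1, 1, 1],
      [0, 0, -1, 0, 1, 0, 1], [-1, 0, 1, 0, -1, 1, 1], [1, 0, 0, 0, 0, -1, 2], [0, 0, -1, 1, -1, 1, 1],
      [-1, 0, 1, 0, 0, -1, 2], [0, 1, 0, -1, 0, 1, 1], [0, 0, -1, 1, 0, -1, 2], [0, -1, 0, 0, 0, 1, 1],
      [0, 1, 0, -1, 1, -1, 2], [0, -1, 0, 0, 1, -1, 2], [0, 1, 0, 0, -1, 0, 2], [0, -1, 0, 1, -1, 0, 2],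
      [0, 0, 1, -1, 0, 0, 2], [1, 0, -1, 0, 0, 0, 2], [-1, 0, 0, 0, 0, 0, 2]] : List (List ℤ))

/-- Level 6. -/
noncomputable def level6 : Level where
  N := 56
  tab := 0x1f1c1a1c171b1e181b1d1b1e1a171a1a1c1a1d161c191917191418181b1518181b131a14171917161916161613161115151518151218101417111414131713101316130f121212121215150e111114110f10140d130e1010120c0f0f0f0f110e110b0e100e0c0d0d100d0b0d0d0c0f0a0c0c0c0e0b0b0e090d0b0a0a0a0c070a0a0b0909090b090807080808080809060707070a05060906060606040708050505050704050404040306050403030204030303020103020202020002010101010101000000000000 |||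
    ((0x3637373737373737353636363636353634353535353434353334343433333334313233323232322f333231313131332f3030303030302e312f2f2f2d32312e2e2e2e2c2e302f2d2d2b2f2d2d2c2c2c292e2a2c2d2b282d2b2b2b292a2a272a2c2a2a29262c2927292b252b282828282627232a242927272229262623262828252525252522242024272421241f272320262323262222221f2225211e21212124211c241d23201e20231f1f1c221f1f1a211b1e1e201e191d201d1d1b1d201c19) <<< 1600)
  ws :=
    ([[], [6], [6, 5], [6, 5, 4],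
      [6, 5, 4, 3], [6, 5, 4, 3, 1], [6, 5, 4, 3, 2], [6, 5, 4, 3, 1, 2],
      [6, 5, 4, 3, 2, 0], [6, 5, 4, 3, 1, 2, 0], [6, 5, 4, 3, 1, 2, 3], [6, 5, 4, 3, 1, 2, 0, 3],
      [6, 5, 4, 3, 1, 2, 3, 4], [6, 5, 4, 3, 1, 2, 0, 3, 2], [6, 5, 4, 3, 1, 2, 0, 3, 4], [6, 5, 4, 3, 1, 2, 3, 4, 5],
      [6, 5, 4, 3, 1, 2, 0, 3, 2, 4], [6, 5, 4, 3, 1, 2, 0, 3, 4, 5], [6, 5, 4, 3, 1, 2, 3, 4, 5, 6], [6, 5, 4, 3, 1, 2, 0, 3, 2, 4, 3],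
      [6, 5, 4, 3, 1, 2, 0, 3, 2, 4, 5], [6, 5, 4, 3, 1, 2, 0, 3, 4, 5, 6], [6, 5, 4, 3, 1, 2, 0, 3, 2, 4, 3, 1], [6, 5, 4, 3, 1, 2, 0, 3, 2, 4, 3, 5],
      [6, 5, 4, 3, 1, 2, 0, 3, 2, 4, 5, 6], [6, 5, 4, 3, 1, 2, 0, 3, 2, 4, 3, 1, 5], [6, 5, 4, 3, 1, 2, 0, 3, 2, 4, 3, 5, 4], [6, 5, 4, 3, 1, 2, 0, 3, 2, 4, 3, 5, 6],
      [6, 5, 4, 3, 1, 2, 0, 3, 2, 4, 3, 1, 5, 4], [6, 5, 4, 3, 1, 2, 0, 3, 2, 4, 3, 1, 5, 6], [6, 5, 4, 3, 1, 2, 0, 3, 2, 4, 3, 5, 4, 6], [6, 5, 4, 3, 1, 2, 0, 3, 2, 4, 3, 1, 5, 4, 3]] : List (List ℕ)) ++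
    ([[6, 5, 4, 3, 1, 2, 0, 3, 2, 4, 3, 1, 5, 4, 6], [6, 5, 4, 3, 1, 2, 0, 3, 2, 4, 3, 5, 4, 6, 5], [6, 5, 4, 3, 1, 2, 0, 3, 2, 4, 3, 1, 5, 4, 3, 2], [6, 5, 4, 3, 1, 2, 0, 3, 2, 4, 3, 1, 5, 4, 3, 6],
      [6, 5, 4, 3, 1, 2, 0, 3, 2, 4, 3, 1, 5, 4, 6, 5], [6, 5, 4, 3, 1, 2, 0, 3, 2, 4, 3, 1, 5, 4, 3, 2, 0], [6, 5, 4, 3, 1, 2, 0, 3, 2, 4, 3, 1, 5, 4, 3, 2, 6], [6, 5, 4, 3, 1, 2, 0, 3, 2, 4, 3, 1, 5, 4, 3, 6, 5],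
      [6, 5, 4, 3, 1, 2, 0, 3, 2, 4, 3, 1, 5, 4, 3, 2, 0, 6], [6, 5, 4, 3, 1, 2, 0, 3, 2, 4, 3, 1, 5, 4, 3, 2, 6, 5], [6, 5, 4, 3, 1, 2, 0, 3, 2, 4, 3, 1, 5, 4, 3, 6, 5, 4], [6, 5, 4, 3, 1, 2, 0, 3, 2, 4, 3, 1, 5, 4, 3, 2, 0, 6, 5],
      [6, 5, 4, 3, 1, 2, 0, 3, 2, 4, 3, 1, 5, 4, 3, 2, 6, 5, 4], [6, 5, 4, 3, 1, 2, 0, 3, 2, 4, 3, 1, 5, 4, 3, 2, 0, 6, 5, 4], [6, 5, 4, 3, 1, 2, 0, 3, 2, 4, 3, 1, 5, 4, 3, 2, 6, 5, 4, 3], [6, 5, 4, 3, 1, 2, 0, 3, 2, 4, 3, 1, 5, 4, 3, 2, 0, 6, 5, 4, 3],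
      [6, 5, 4, 3, 1, 2, 0, 3, 2, 4, 3, 1, 5, 4, 3, 2, 6, 5, 4, 3, 1], [6, 5, 4, 3, 1, 2, 0, 3, 2, 4, 3, 1, 5, 4, 3, 2, 0, 6, 5, 4, 3, 1], [6, 5, 4, 3, 1, 2, 0, 3, 2, 4, 3, 1, 5, 4, 3, 2, 0, 6, 5, 4, 3, 2], [6, 5, 4, 3, 1, 2, 0, 3, 2, 4, 3, 1, 5, 4, 3, 2, 0, 6, 5, 4, 3, 1, 2],
      [6, 5, 4, 3, 1, 2, 0, 3, 2, 4, 3, 1, 5, 4, 3, 2, 0, 6, 5, 4, 3, 1, 2, 3], [6, 5, 4, 3, 1, 2, 0, 3, 2, 4, 3, 1, 5, 4, 3, 2, 0, 6, 5, 4, 3, 1, 2, 3, 4], [6, 5, 4, 3, 1, 2, 0, 3, 2, 4, 3, 1, 5, 4, 3, 2, 0, 6, 5, 4, 3, 1, 2, 3, 4, 5], [6, 5, 4, 3, 1, 2, 0, 3, 2, 4, 3, 1, 5, 4, 3, 2, 0, 6, 5, 4, 3, 1, 2, 3, 4, 5, 6]] : List (List ℕ))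
  steps :=
    ([(0, 0), (1, 1), (2, 2), (3, 3), (4, 4), (5, 5), (6, 6), (12, 5),
      (18, 4), (24, 3), (29, 1), (30, 2), (37, 2), (42, 0), (49, 0), (52, 3),
      (66, 3), (74, 4), (79, 2), (81, 4), (89, 5), (95, 4), (103, 5), (111, 6),
      (115, 3), (117, 5), (125, 6), (134, 1), (138, 5), (146, 6), (159, 5), (165, 4)] : List (ℕ × ℕ)) ++
    ([(167, 6), (179, 4), (181, 6), (188, 6), (199, 3), (202, 6), (215, 5), (219, 2),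
      (223, 6), (229, 5), (238, 0), (244, 6), (250, 5), (265, 6), (271, 5), (277, 4),
      (285, 5), (291, 4), (305, 4), (311, 3), (318, 3), (323, 1), (330, 1), (331, 2),
      (345, 2), (360, 3), (368, 4), (376, 5), (384, 6), (7, 6), (8, 6), (9, 6)] : List (ℕ × ℕ)) ++
    ([(10, 6), (11, 6), (14, 5), (15, 5), (16, 5), (17, 5), (20, 5), (21, 4),
      (22, 4), (23, 4), (26, 4), (27, 4), (28, 3), (32, 3), (33, 3), (34, 3),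
      (35, 1), (38, 1), (39, 1), (40, 1), (41, 1), (43, 2), (45, 2), (46, 2),
      (47, 2), (48, 2), (53, 1), (54, 1), (55, 1), (57, 0), (58, 0), (59, 0)] : List (ℕ × ℕ)) ++
    ([(60, 0), (61, 0), (62, 0), (65, 0), (67, 0), (68, 0), (69, 0), (70, 3),
      (71, 3), (72, 3), (75, 3), (76, 3), (78, 0), (82, 0), (83, 0), (84, 4),
      (85, 4), (86, 4), (87, 4), (90, 4), (91, 2), (92, 2), (94, 2), (96, 2),
      (97, 2), (99, 0), (100, 4), (101, 0), (104, 0), (105, 5), (106, 5), (107, 5)] : List (ℕ × ℕ)) ++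
    ([(108, 5), (109, 5), (112, 2), (113, 2), (118, 2), (120, 0), (121, 5), (122, 0),
      (123, 0), (126, 6), (127, 6), (128, 6), (129, 6), (130, 6), (131, 6), (133, 3),
      (135, 3), (137, 3), (139, 3), (140, 2), (141, 2), (143, 5), (144, 2), (148, 0),
      (149, 6), (150, 0), (151, 0), (152, 0), (154, 1), (156, 1), (157, 1), (158, 1)] : List (ℕ × ℕ)) ++
    ([(160, 1), (161, 3), (162, 5), (163, 3), (168, 2), (169, 2), (171, 6), (172, 2),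
      (173, 2), (175, 1), (177, 1), (178, 1), (182, 4), (183, 4), (184, 4), (185, 4),
      (187, 4), (189, 3), (190, 6), (191, 3), (193, 6), (194, 3), (196, 1), (198, 1),
      (201, 1), (203, 1), (205, 1), (206, 1), (207, 6), (208, 1), (210, 4), (211, 4)] : List (ℕ × ℕ)) ++
    ([(212, 4), (213, 4), (217, 3), (218, 3), (221, 3), (222, 3), (224, 1), (226, 1),
      (227, 6), (231, 5), (232, 5), (233, 5), (234, 5), (235, 5), (237, 5), (239, 2),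
      (241, 2), (242, 2), (243, 2), (245, 3), (246, 3), (247, 6), (249, 3), (252, 1),
      (254, 1), (255, 5), (256, 1), (258, 1), (260, 0), (261, 0), (262, 0), (263, 0)] : List (ℕ × ℕ)) ++
    ([(264, 0), (266, 6), (267, 2), (269, 2), (270, 2), (273, 3), (274, 3), (275, 5),
      (279, 3), (281, 0), (282, 0), (283, 0), (284, 0), (287, 5), (288, 2), (290, 2),
      (293, 2), (294, 4), (295, 4), (296, 4), (297, 4), (299, 4), (300, 4), (302, 0),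
      (303, 0), (304, 0), (307, 0), (308, 4), (309, 2), (313, 2), (314, 2), (316, 0)] : List (ℕ × ℕ)) ++
    ([(317, 0), (320, 0), (321, 0), (322, 3), (324, 3), (326, 3), (327, 3), (328, 3),
      (333, 0), (334, 0), (335, 0), (336, 1), (338, 1), (339, 1), (340, 1), (341, 1),
      (342, 1), (346, 0), (347, 0), (348, 0), (349, 0), (350, 2), (351, 2), (353, 2),
      (354, 2), (355, 2), (356, 2), (357, 1), (361, 1), (362, 1), (363, 1), (364, 3)] : List (ℕ × ℕ)) ++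
    ([(365, 3), (366, 3), (369, 3), (370, 3), (371, 4), (372, 4), (373, 4), (374, 4),
      (377, 4), (378, 5), (379, 5), (380, 5), (381, 5), (382, 5), (385, 6), (386, 6),
      (387, 6), (388, 6), (389, 6), (390, 6)] : List (ℕ × ℕ))
  vs :=
    ([[0, 0, 0, 0, 0, 0, 1], [0, 0, 0, 0, 0, 1, -1], [0, 0, 0, 0, 1, -1, 0], [0, 0, 0, 1, -1, 0, 0],
      [0, 1, 1, -1, 0, 0, 0], [0, -1, 1, 0, 0, 0, 0], [1, 1, -1, 0, 0, 0, 0], [1, -1, -1, 1, 0, 0, 0],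
      [-1, 1, 0, 0, 0, 0, 0], [-1, -1, 0, 1, 0, 0, 0], [1, 0, 0, -1, 1, 0, 0], [-1, 0, 1, -1, 1, 0, 0],
      [1, 0, 0, 0, -1, 1, 0], [0, 0, -1, 0, 1, 0, 0], [-1, 0, 1, 0, -1, 1, 0], [1, 0, 0, 0, 0, -1, 1],
      [0, 0, -1, 1, -1, 1, 0], [-1, 0, 1, 0, 0, -1, 1], [1, 0, 0, 0, 0, 0, -1], [0, 1, 0, -1, 0, 1, 0],
      [0, 0, -1, 1, 0, -1, 1], [-1, 0, 1, 0, 0, 0, -1], [0, -1, 0, 0, 0, 1, 0], [0, 1, 0, -1, 1, -1, 1],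
      [0, 0, -1, 1, 0, 0, -1], [0, -1, 0, 0, 1, -1, 1], [0, 1, 0, 0, -1, 0, 1], [0, 1, 0, -1, 1, 0, -1],
      [0, -1, 0, 1, -1, 0, 1], [0, -1, 0, 0, 1, 0, -1], [0, 1, 0, 0, -1, 1, -1], [0, 0, 1, -1, 0, 0, 1]] : List (List ℤ)) ++
    ([[0, -1, 0, 1, -1, 1, -1], [0, 1, 0, 0, 0, -1, 0], [1, 0, -1, 0, 0, 0, 1], [0, 0, 1, -1, 0, 1, -1],
      [0, -1, 0, 1, 0, -1, 0], [-1, 0, 0, 0, 0, 0, 1], [1, 0, -1, 0, 0, 1, -1], [0, 0, 1, -1, 1, -1, 0],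
      [-1, 0, 0, 0, 0, 1, -1], [1, 0, -1, 0, 1, -1, 0], [0, 0, 1, 0, -1, 0, 0], [-1, 0, 0, 0, 1, -1, 0],
      [1, 0, -1, 1, -1, 0, 0], [-1, 0, 0, 1, -1, 0, 0], [1, 1, 0, -1, 0, 0, 0], [-1, 1, 1, -1, 0, 0, 0],
      [1, -1, 0, 0, 0, 0, 0], [-1, -1, 1, 0, 0, 0, 0], [0, 1, -1, 0, 0, 0, 0], [0, -1, -1, 1, 0, 0, 0],
      [0, 0, 0, -1, 1, 0, 0], [0, 0, 0, 0, -1, 1, 0], [0, 0, 0, 0, 0, -1, 1], [0, 0, 0, 0, 0, 0, -1]] : List (List ℤ))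

/-- All levels. -/
noncomputable def levels : List Level := [level0, level1, level2, level3, level4, level5, level6]

end Cfsg.Agent.WeylFin.E7
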