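import Cfsg.Agent.Lib.WeylFin.Cert

/-! Coset-table certificate for the Coxeter group of type F4, generated by a script. -/

set_option autoImplicit false
set_option maxRecDepth 10000

namespace Cfsg.Agent.WeylFin.F4

/-- A Cartan matrix. -/
def cartan : List (List ℤ) := [[2, -1, 0, 0], [-1, 2, -1, 0], [0, -2, 2, -1], [0, 0, -1, 2]]

/-- Level 0. -/
noncomputable def level0 : Level where
  N := 2
  tab := 0x1
  ws :=
    ([[], [0]] : List (List ℕ))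
  steps :=
    ([(0, 0)] : List (ℕ × ℕ))
  vs :=
    ([[1, 0, 0, 0], [-1, 1, 0, 0]] : List (List ℤ))

/-- Level 1. -/
noncomputable def level1 : Level where
  N := 3
  tab := 0x20100020100
  ws :=
    ([[], [1], [1, 0]] : List (List ℕ))
  steps :=
    ([(0, 0), (1, 1), (2, 0), (5, 0)] : List (ℕ × ℕ))
  vs :=
    ([[0, 1, 0, 0], [1, -1, 1, 0], [-1, 0, 1, 0]] : List (List ℤ))

/-- Level 2. -/
noncomputable def level2 : Level where
  N := 8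
  tab := 0x60707070506030604020405050302040103000201010000
  ws :=
    ([[], [2], [2, 1], [2, 1, 0],
      [2, 1, 2], [2, 1, 0, 2], [2, 1, 0, 2, 1], [2, 1, 0, 2, 1, 2]] : List (List ℕ))
  steps :=
    ([(0, 0), (1, 1), (2, 2), (4, 1), (6, 0), (8, 2), (11, 2), (16, 1),
      (20, 2), (3, 2), (10, 0), (12, 2), (13, 2), (18, 1), (21, 2), (22, 2)] : List (ℕ × ℕ))
  vs :=
    ([[0, 0, 1, 0], [0, 2, -1, 1], [2, -2, 1, 1], [-2, 0, 1, 1],
      [2, 0, -1, 2], [-2, 2, -1, 2], [0, -2, 1, 2], [0, 0, -1, 3]] : List (List ℤ))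

/-- Level 3. -/
noncomputable def level3 : Level where
  N := 24
  tab := 0x1617171717151616151614151412151313101314111412101211110f0f130e12100f0d110d0c100e0e0b0f0d0a0e0c0c080d090b0c080a0a06090b070b0a06080507070909040805070305060406040303050204020103020002010101000000
  ws :=
    ([[], [3], [3, 2], [3, 2, 1],
      [3, 2, 1, 0], [3, 2, 1, 2], [3, 2, 1, 0, 2], [3, 2, 1, 2, 3],
      [3, 2, 1, 0, 2, 1], [3, 2, 1, 0, 2, 3], [3, 2, 1, 0, 2, 1, 2], [3, 2, 1, 0, 2, 1, 3],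
      [3, 2, 1, 0, 2, 1, 2, 3], [3, 2, 1, 0, 2, 1, 3, 2], [3, 2, 1, 0, 2, 1, 2, 3, 2], [3, 2, 1, 0, 2, 1, 3, 2, 1],
      [3, 2, 1, 0, 2, 1, 2, 3, 2, 1], [3, 2, 1, 0, 2, 1, 3, 2, 1, 0], [3, 2, 1, 0, 2, 1, 2, 3, 2, 1, 0], [3, 2, 1, 0, 2, 1, 2, 3, 2, 1, 2],
      [3, 2, 1, 0, 2, 1, 2, 3, 2, 1, 0, 2], [3, 2, 1, 0, 2, 1, 2, 3, 2, 1, 0, 2, 1], [3, 2, 1, 0, 2, 1, 2, 3, 2, 1, 0, 2, 1, 2], [3, 2, 1, 0, 2, 1, 2, 3, 2, 1, 0, 2, 1, 2, 3]] : List (List ℕ))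
  steps :=
    ([(0, 0), (1, 1), (2, 2), (3, 3), (6, 2), (9, 1), (12, 0), (14, 2),
      (18, 2), (23, 3), (25, 1), (27, 3), (34, 2), (35, 3), (43, 3), (46, 2),
      (50, 2), (53, 1), (57, 1), (60, 0), (64, 0), (66, 2), (74, 2), (81, 1),
      (86, 2), (91, 3), (4, 3), (5, 3), (8, 2), (11, 2), (15, 1), (17, 0)] : List (ℕ × ℕ)) ++
    ([(19, 0), (20, 2), (21, 2), (28, 3), (29, 3), (30, 3), (32, 1), (37, 3),
      (38, 0), (40, 2), (41, 2), (44, 1), (48, 3), (49, 3), (52, 2), (55, 2),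
      (56, 2), (62, 1), (63, 1), (69, 0), (70, 0), (71, 0), (73, 0), (76, 2),
      (77, 2), (79, 2), (83, 0), (84, 1), (87, 1), (88, 2), (89, 2), (92, 3)] : List (ℕ × ℕ)) ++
    ([(93, 3), (94, 3)] : List (ℕ × ℕ))
  vs :=
    ([[0, 0, 0, 1], [0, 0, 1, -1], [0, 2, -1, 0], [2, -2, 1, 0],
      [-2, 0, 1, 0], [2, 0, -1, 1], [-2, 2, -1, 1], [2, 0, 0, -1],
      [0, -2, 1, 1], [-2, 2, 0, -1], [0, 0, -1, 2], [0, -2, 2, -1],
      [0, 0, 1, -2], [0, 2, -2, 1], [0, 2, -1, -1], [2, -2, 0, 1],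
      [2, -2, 1, -1], [-2, 0, 0, 1], [-2, 0, 1, -1], [2, 0, -1, 0],
      [-2, 2, -1, 0], [0, -2, 1, 0], [0, 0, -1, 1], [0, 0, 0, -1]] : List (List ℤ))

/-- All levels. -/
noncomputable def levels : List Level := [level0, level1, level2, level3]

end Cfsg.Agent.WeylFin.F4
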