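import Cfsg.Agent.Lib.WeylFin.Cert

/-!
Consequences of a valid certificate: the order, the order of an element and the centre, read off
from the (faithful) integer reflection representation.
-/

set_option autoImplicit false

namespace Cfsg.Agent.WeylFin

variable {n : ℕ} {M : CoxeterMatrix (Fin n)} {A : List (List ℤ)} {Ls : List Level}
  {hlift : M.IsLiftable (reflMat n A)}

theorem rho_injective (h : checkAll n (mNat M) A Ls = true) :
    Function.Injective (rho A hlift) := (finite_and_card A h hlift).2.1

theorem rho_coxeterElement (hlift : M.IsLiftable (reflMat n A)) :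
    rho A hlift ((List.finRange n).map M.simple).prod =
      ((List.finRange n).map (reflMat n A)).prod := by
  rw [map_list_prod, List.map_map]
  exact congrArg List.prod (List.map_congr_left fun i _ => rho_simple A hlift i)

/-- The entry of the Cartan matrix. -/
def cEntry (n : ℕ) (A : List (List ℤ)) (i j : Fin n) : ℤ := (A.getD i.1 []).getD j.1 0

/-- The diagonal is `2` and `par` exhibits the diagram as connected. -/
def connCheck (n : ℕ) (A : List (List ℤ)) (par : List (Fin n)) : Prop :=
  (∀ i : Fin n, cEntry n A i i = 2) ∧ par.length = n ∧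
    (∀ i : Fin n, (par.getD i.1 i).1 = i.1 → i.1 = 0) ∧
    (∀ i : Fin n, par.getD i.1 i = i ∨ cEntry n A i (par.getD i.1 i) ≠ 0) ∧
    ∀ i : Fin n, ((fun j => par.getD j.1 j)^[n] i).1 = 0

instance decidableConnCheck (n : ℕ) (A : List (List ℤ)) (par : List (Fin n)) :
    Decidable (connCheck n A par) := by
  unfold connCheck; infer_instance

/-- A central element is `±1` in the reflection representation. -/
theorem rho_center {par : List (Fin n)} (hc : connCheck n A par) {z : M.Group}
    (hz : z ∈ Subgroup.center M.Group) : rho A hlift z = 1 ∨ rho A hlift z = -1 := by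
  obtain ⟨hdiag, -, -, hpar, hroot⟩ := hc
  rcases isEmpty_or_nonempty (Fin n) with he | ⟨⟨i₀⟩⟩
  · exact Or.inl (Matrix.ext fun i => (he.false i).elim)
  have key : ∀ i r c : Fin n,
      rho A hlift z r i * cEntry n A i c =
        if r = i then ∑ j, cEntry n A i j * rho A hlift z j c else 0 := by
    intro i r c
    have h1 : rho A hlift z * reflMat n A i = reflMat n A i * rho A hlift z := by
      rw [← rho_simple A hlift, ← map_mul, ← map_mul, Subgroup.mem_center_iff.1 hz]
    have h2 : reflMat n A i = 1 - Matrix.of fun r c => if r = i then cEntry n A i c else 0 := by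
      ext r c
      simp only [reflMat, Matrix.of_apply, Matrix.sub_apply, Matrix.one_apply, cEntry]
    rw [h2, mul_sub, sub_mul, mul_one, one_mul, sub_right_inj] at h1
    have h3 := congrFun (congrFun h1 r) c
    simp only [Matrix.mul_apply, Matrix.of_apply, mul_ite, mul_zero, ite_mul, zero_mul,
      Finset.sum_ite_eq', Finset.mem_univ, if_true] at h3
    rw [h3]
    split_ifs with h <;> simp
  have hoff : ∀ r i : Fin n, r ≠ i → rho A hlift z r i = 0 := by
    intro r i h
    have := key i r i
    rw [hdiag, if_neg h] at this
    omega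
  have hstep : ∀ i c : Fin n, cEntry n A i c ≠ 0 →
      rho A hlift z i i = rho A hlift z c c := by
    intro i c h
    have h3 := key i i c
    rw [if_pos rfl, Finset.sum_eq_single c (fun j _ hj => by rw [hoff j c hj, mul_zero])
      (fun hc => absurd (Finset.mem_univ c) hc), mul_comm] at h3
    exact mul_left_cancel₀ h h3
  have hall : ∀ i, rho A hlift z i i = rho A hlift z i₀ i₀ := by
    have hit : ∀ (k : ℕ) (i : Fin n), rho A hlift z i i =
        rho A hlift z ((fun j => par.getD j.1 j)^[k] i) ((fun j => par.getD j.1 j)^[k] i) := by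
      intro k
      induction k with
      | zero => intro i; rfl
      | succ k ih =>
        intro i
        rw [Function.iterate_succ_apply, ← ih]
        rcases hpar i with e | e
        · rw [e]
        · exact hstep _ _ e
    intro i
    rw [hit n i, hit n i₀, Fin.ext ((hroot i).trans (hroot i₀).symm)]
  have hunit : IsUnit (rho A hlift z i₀ i₀) := by
    refine IsUnit.of_mul_eq_one (rho A hlift z⁻¹ i₀ i₀) ?_
    have h4 := congrFun (congrFun (map_mul (rho A hlift) z z⁻¹) i₀) i₀
    rw [mul_inv_cancel, map_one, Matrix.mul_apply, Matrix.one_apply_eq,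
      Finset.sum_eq_single i₀ (fun j _ hj => by rw [hoff i₀ j (Ne.symm hj), zero_mul])
        (fun hc => absurd (Finset.mem_univ i₀) hc)] at h4
    exact h4.symm
  rcases Int.isUnit_iff.1 hunit with e | e
  · left
    ext r i
    by_cases h : r = i
    · subst h; rw [hall, e, Matrix.one_apply_eq]
    · rw [hoff r i h, Matrix.one_apply_ne h]
  · right
    ext r i
    by_cases h : r = i
    · subst h; rw [hall, e, Matrix.neg_apply, Matrix.one_apply_eq]
    · rw [hoff r i h, Matrix.neg_apply, Matrix.one_apply_ne h, neg_zero]

theorem center_eq_zpowers (h : checkAll n (mNat M) A Ls = true) {par : List (Fin n)}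
    (hc : connCheck n A par) {z : M.Group} (hz : rho A hlift z = -1) :
    Subgroup.center M.Group = Subgroup.zpowers z := by
  have hinj := rho_injective (hlift := hlift) h
  refine le_antisymm (fun w hw => ?_) (Subgroup.zpowers_le.2 (Subgroup.mem_center_iff.2 fun g => ?_))
  · rcases rho_center (hlift := hlift) hc hw with e | e
    · rw [hinj (e.trans (map_one _).symm)]; exact one_mem _
    · rw [hinj (e.trans hz.symm)]; exact Subgroup.mem_zpowers z
  · apply hinj
    rw [map_mul, map_mul, hz, mul_neg_one, neg_one_mul]

theorem card_center_two (h : checkAll n (mNat M) A Ls = true) {par : List (Fin n)}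
    (hc : connCheck n A par) (hn : 0 < n) {z : M.Group} (hz : rho A hlift z = -1) :
    Nat.card (Subgroup.center M.Group) = 2 := by
  have hinj := rho_injective (hlift := hlift) h
  rw [center_eq_zpowers (hlift := hlift) h hc hz, Nat.card_zpowers]
  refine orderOf_eq_prime ?_ fun e => ?_
  · apply hinj
    rw [map_pow, hz, map_one, neg_one_sq]
  · rw [e, map_one] at hz
    have := congrFun (congrFun hz ⟨0, hn⟩) ⟨0, hn⟩
    rw [Matrix.neg_apply, Matrix.one_apply_eq] at this
    norm_num at this

theorem center_eq_bot (hlift : M.IsLiftable (reflMat n A)) (h : checkAll n (mNat M) A Ls = true) {par : List (Fin n)}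
    (hc : connCheck n A par) {L : Level} (hL : Ls.getLast? = some L)
    (hno : ∀ v ∈ L.vs, toVec n v ≠ -toVec n (unitVec n (n - 1))) :
    Subgroup.center M.Group = ⊥ := by
  obtain ⟨-, hinj, horb⟩ := finite_and_card A h hlift
  rw [eq_bot_iff]
  intro w hw
  rcases rho_center (hlift := hlift) hc hw with e | e
  · exact Subgroup.mem_bot.2 (hinj (e.trans (map_one _).symm))
  · obtain ⟨v, hv, hv'⟩ := horb L hL w
    rw [e, Matrix.vecMul_neg, Matrix.vecMul_one] at hv'
    exact absurd hv'.symm (hno v hv)

end Cfsg.Agent.WeylFin
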