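import Cfsg.Agent.Lib.WeylFin.Facts
import Cfsg.Agent.Lib.WeylFin.CheckB2
import Cfsg.Agent.Lib.WeylFin.CheckG2
import Cfsg.Agent.Lib.WeylFin.CheckD4
import Cfsg.Agent.Lib.WeylFin.CheckF4
import Cfsg.Agent.Lib.WeylFin.CheckE6
import Cfsg.Agent.Lib.WeylFin.CheckE7
import Cfsg.Agent.Lib.WeylFin.CheckE8

/-! Orders, Coxeter numbers and centres of the exceptional finite Coxeter groups. -/

set_option autoImplicit false

namespace Cfsg.Agent.WeylFin

theorem card_B2 : Nat.card (CoxeterMatrix.B 2).Group = 8 :=
  (finite_and_card B2.cartan B2.check_ok B2.liftable).1.trans (by decide +kernel)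

theorem orderOf_coxeter_B2 :
    orderOf ((List.finRange 2).map (CoxeterMatrix.B 2).simple).prod = 4 := by
  rw [← orderOf_injective (rho B2.cartan B2.liftable)
    (rho_injective B2.check_ok), rho_coxeterElement]
  rw [orderOf_eq_iff (by norm_num)]
  decide +kernel

theorem conn_B2 : connCheck 2 B2.cartan [0, 0] := by decide +kernel

theorem center_B2 : Nat.card (Subgroup.center (CoxeterMatrix.B 2).Group) = 2 ∧
    Subgroup.center (CoxeterMatrix.B 2).Group ≤
      Subgroup.zpowers ((List.finRange 2).map (CoxeterMatrix.B 2).simple).prod := by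
  have hz : rho B2.cartan B2.liftable
      (((List.finRange 2).map (CoxeterMatrix.B 2).simple).prod ^ 2) = -1 := by
    rw [map_pow, rho_coxeterElement]
    decide +kernel
  refine ⟨card_center_two B2.check_ok conn_B2 (by norm_num) hz, ?_⟩
  rw [center_eq_zpowers B2.check_ok conn_B2 hz]
  exact Subgroup.zpowers_le.2 (Subgroup.npow_mem_zpowers _ _)

theorem card_G2 : Nat.card CoxeterMatrix.G₂.Group = 12 :=
  (finite_and_card G2.cartan G2.check_ok G2.liftable).1.trans (by decide +kernel)

theorem orderOf_coxeter_G2 :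
    orderOf ((List.finRange 2).map CoxeterMatrix.G₂.simple).prod = 6 := by
  rw [← orderOf_injective (rho G2.cartan G2.liftable)
    (rho_injective G2.check_ok), rho_coxeterElement]
  rw [orderOf_eq_iff (by norm_num)]
  decide +kernel

theorem conn_G2 : connCheck 2 G2.cartan [0, 0] := by decide +kernel

theorem center_G2 : Nat.card (Subgroup.center CoxeterMatrix.G₂.Group) = 2 ∧
    Subgroup.center CoxeterMatrix.G₂.Group ≤
      Subgroup.zpowers ((List.finRange 2).map CoxeterMatrix.G₂.simple).prod := by
  have hz : rho G2.cartan G2.liftable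
      (((List.finRange 2).map CoxeterMatrix.G₂.simple).prod ^ 3) = -1 := by
    rw [map_pow, rho_coxeterElement]
    decide +kernel
  refine ⟨card_center_two G2.check_ok conn_G2 (by norm_num) hz, ?_⟩
  rw [center_eq_zpowers G2.check_ok conn_G2 hz]
  exact Subgroup.zpowers_le.2 (Subgroup.npow_mem_zpowers _ _)

theorem card_D4 : Nat.card Cfsg.Lie.coxeterD4.Group = 192 :=
  (finite_and_card D4.cartan D4.check_ok D4.liftable).1.trans (by decide +kernel)

theorem orderOf_coxeter_D4 :
    orderOf ((List.finRange 4).map Cfsg.Lie.coxeterD4.simple).prod = 6 := by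
  rw [← orderOf_injective (rho D4.cartan D4.liftable)
    (rho_injective D4.check_ok), rho_coxeterElement]
  rw [orderOf_eq_iff (by norm_num)]
  decide +kernel

theorem conn_D4 : connCheck 4 D4.cartan [0, 0, 1, 1] := by decide +kernel

theorem center_D4 : Nat.card (Subgroup.center Cfsg.Lie.coxeterD4.Group) = 2 ∧
    Subgroup.center Cfsg.Lie.coxeterD4.Group ≤
      Subgroup.zpowers ((List.finRange 4).map Cfsg.Lie.coxeterD4.simple).prod := by
  have hz : rho D4.cartan D4.liftable
      (((List.finRange 4).map Cfsg.Lie.coxeterD4.simple).prod ^ 3) = -1 := by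
    rw [map_pow, rho_coxeterElement]
    decide +kernel
  refine ⟨card_center_two D4.check_ok conn_D4 (by norm_num) hz, ?_⟩
  rw [center_eq_zpowers D4.check_ok conn_D4 hz]
  exact Subgroup.zpowers_le.2 (Subgroup.npow_mem_zpowers _ _)

theorem card_F4 : Nat.card CoxeterMatrix.F₄.Group = 1152 :=
  (finite_and_card F4.cartan F4.check_ok F4.liftable).1.trans (by decide +kernel)

theorem orderOf_coxeter_F4 :
    orderOf ((List.finRange 4).map CoxeterMatrix.F₄.simple).prod = 12 := by
  rw [← orderOf_injective (rho F4.cartan F4.liftable)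
    (rho_injective F4.check_ok), rho_coxeterElement]
  rw [orderOf_eq_iff (by norm_num)]
  decide +kernel

theorem conn_F4 : connCheck 4 F4.cartan [0, 0, 1, 2] := by decide +kernel

theorem center_F4 : Nat.card (Subgroup.center CoxeterMatrix.F₄.Group) = 2 ∧
    Subgroup.center CoxeterMatrix.F₄.Group ≤
      Subgroup.zpowers ((List.finRange 4).map CoxeterMatrix.F₄.simple).prod := by
  have hz : rho F4.cartan F4.liftable
      (((List.finRange 4).map CoxeterMatrix.F₄.simple).prod ^ 6) = -1 := by
    rw [map_pow, rho_coxeterElement]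
    decide +kernel
  refine ⟨card_center_two F4.check_ok conn_F4 (by norm_num) hz, ?_⟩
  rw [center_eq_zpowers F4.check_ok conn_F4 hz]
  exact Subgroup.zpowers_le.2 (Subgroup.npow_mem_zpowers _ _)

theorem card_E6 : Nat.card CoxeterMatrix.E₆.Group = 51840 :=
  (finite_and_card E6.cartan E6.check_ok E6.liftable).1.trans (by decide +kernel)

theorem orderOf_coxeter_E6 :
    orderOf ((List.finRange 6).map CoxeterMatrix.E₆.simple).prod = 12 := by
  rw [← orderOf_injective (rho E6.cartan E6.liftable)
    (rho_injective E6.check_ok), rho_coxeterElement]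
  rw [orderOf_eq_iff (by norm_num)]
  decide +kernel

theorem conn_E6 : connCheck 6 E6.cartan [0, 3, 0, 2, 3, 4] := by decide +kernel

theorem center_E6 : Nat.card (Subgroup.center CoxeterMatrix.E₆.Group) = 1 ∧
    Subgroup.center CoxeterMatrix.E₆.Group ≤
      Subgroup.zpowers ((List.finRange 6).map CoxeterMatrix.E₆.simple).prod := by
  rw [center_eq_bot E6.liftable E6.check_ok conn_E6 (L := E6.level5) rfl (by decide +kernel)]
  exact ⟨Subgroup.card_bot, bot_le⟩

theorem card_E7 : Nat.card CoxeterMatrix.E₇.Group = 2903040 :=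
  (finite_and_card E7.cartan E7.check_ok E7.liftable).1.trans (by decide +kernel)

theorem orderOf_coxeter_E7 :
    orderOf ((List.finRange 7).map CoxeterMatrix.E₇.simple).prod = 18 := by
  rw [← orderOf_injective (rho E7.cartan E7.liftable)
    (rho_injective E7.check_ok), rho_coxeterElement]
  rw [orderOf_eq_iff (by norm_num)]
  decide +kernel

theorem conn_E7 : connCheck 7 E7.cartan [0, 3, 0, 2, 3, 4, 5] := by decide +kernel

theorem center_E7 : Nat.card (Subgroup.center CoxeterMatrix.E₇.Group) = 2 ∧
    Subgroup.center CoxeterMatrix.E₇.Group ≤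
      Subgroup.zpowers ((List.finRange 7).map CoxeterMatrix.E₇.simple).prod := by
  have hz : rho E7.cartan E7.liftable
      (((List.finRange 7).map CoxeterMatrix.E₇.simple).prod ^ 9) = -1 := by
    rw [map_pow, rho_coxeterElement]
    decide +kernel
  refine ⟨card_center_two E7.check_ok conn_E7 (by norm_num) hz, ?_⟩
  rw [center_eq_zpowers E7.check_ok conn_E7 hz]
  exact Subgroup.zpowers_le.2 (Subgroup.npow_mem_zpowers _ _)

theorem card_E8 : Nat.card CoxeterMatrix.E₈.Group = 696729600 :=
  (finite_and_card E8.cartan E8.check_ok E8.liftable).1.trans (by decide +kernel)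

theorem orderOf_coxeter_E8 :
    orderOf ((List.finRange 8).map CoxeterMatrix.E₈.simple).prod = 30 := by
  rw [← orderOf_injective (rho E8.cartan E8.liftable)
    (rho_injective E8.check_ok), rho_coxeterElement]
  rw [orderOf_eq_iff (by norm_num)]
  decide +kernel

theorem conn_E8 : connCheck 8 E8.cartan [0, 3, 0, 2, 3, 4, 5, 6] := by decide +kernel

theorem center_E8 : Nat.card (Subgroup.center CoxeterMatrix.E₈.Group) = 2 ∧
    Subgroup.center CoxeterMatrix.E₈.Group ≤
      Subgroup.zpowers ((List.finRange 8).map CoxeterMatrix.E₈.simple).prod := by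
  have hz : rho E8.cartan E8.liftable
      (((List.finRange 8).map CoxeterMatrix.E₈.simple).prod ^ 15) = -1 := by
    rw [map_pow, rho_coxeterElement]
    decide +kernel
  refine ⟨card_center_two E8.check_ok conn_E8 (by norm_num) hz, ?_⟩
  rw [center_eq_zpowers E8.check_ok conn_E8 hz]
  exact Subgroup.zpowers_le.2 (Subgroup.npow_mem_zpowers _ _)

end Cfsg.Agent.WeylFin
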